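import Groth.Agent.H8Props.StratPieces.EtRad
import Groth.Agent.H8Props.StratPieces.EtRadModel
import Groth.Agent.H8Props.Generic
import Groth.Agent.H17.IndCons
import Groth.Agent.H7Flat.GenericFlatness
import Mathlib.AlgebraicGeometry.Morphisms.Etale
import Mathlib.AlgebraicGeometry.Morphisms.UniversallyInjective

/-!
# Finite étale then finite radicial sections of surjective morphisms on the pieces of a partition
-/

set_option autoImplicit false
set_option linter.style.haveILetI false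
set_option linter.unusedVariables false
set_option backward.isDefEq.respectTransparency false

universe u

open CategoryTheory CategoryTheory.Limits AlgebraicGeometry TopologicalSpace Opposite

namespace Groth.Agent.H06Decomp.FiniteEtRad

open Groth.Agent Groth.Agent.H8Props.StratPieces
open Groth.Agent.H8Props.SmoothStrat

variable {X S : Scheme.{u}}

/-- Over `d`, the morphism has a section after an étale cover followed by a flat radicial cover. -/
def FPiece (f : X ⟶ S) ⦃D : Scheme.{u}⦄ (d : D ⟶ S) : Prop :=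
  IsAffine D ∧ ∃ (T' T'' : Scheme.{u}) (h : T' ⟶ D) (g : T'' ⟶ T') (σ : T'' ⟶ X),
    (Etale h ∧ Surjective h ∧ IsFinite h) ∧
    (Flat g ∧ UniversallyInjective g ∧ Surjective g ∧ LocallyOfFinitePresentation g ∧ IsFinite g) ∧ σ ≫ f = g ≫ h ≫ d

theorem FPiece.baseChange {X' S' : Scheme.{u}} {f : X ⟶ S} {f' : X' ⟶ S'} {π : S' ⟶ S} {gX : X' ⟶ X}
    (hf : IsPullback gX f' f π) [IsAffineHom π] ⦃D D' : Scheme.{u}⦄ (q : D' ⟶ D) (d' : D' ⟶ S')
    (d : D ⟶ S) (hq : IsPullback q d' d π) (h : FPiece f d) : FPiece f' d' := by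
  obtain ⟨hD, T', T'', hh, g, σ, ⟨e1, e2, e3⟩, ⟨g1, g2, g3, g4, g5⟩, hσ⟩ := h
  haveI : IsAffineHom q := MorphismProperty.of_isPullback hq.flip ‹IsAffineHom π›
  haveI := hD
  let h' := pullback.snd hh q
  let g' := pullback.snd g (pullback.fst hh q)
  have w : (pullback.fst g (pullback.fst hh q) ≫ σ) ≫ f = (g' ≫ h' ≫ d') ≫ π := by
    simp only [g', h', Category.assoc, hσ]
    rw [← hq.w, ← pullback.condition_assoc, pullback.condition_assoc]
  refine ⟨isAffine_of_isAffineHom q, _, _, h', g', hf.lift (pullback.fst g (pullback.fst hh q) ≫ σ)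
    (g' ≫ h' ≫ d') w, ⟨?_, ?_, ?_⟩, ⟨?_, ?_, ?_, ?_, ?_⟩, hf.lift_snd _ _ _⟩ <;>
  exact MorphismProperty.pullback_snd _ _ ‹_›

theorem FPiece.of_iso {f : X ⟶ S} ⦃D D' : Scheme.{u}⦄ (e : D' ≅ D) (d : D ⟶ S)
    (h : FPiece f (e.hom ≫ d)) : FPiece f d :=
  h.baseChange (IsPullback.of_horiz_isIso ⟨by simp⟩ : IsPullback (𝟙 X) f f (𝟙 S)) e.inv d _
    (IsPullback.of_horiz_isIso ⟨by simp⟩)

variable (f : X ⟶ S) [LocallyOfFinitePresentation f] [Surjective f]

/-- An open piece of a reduced scheme over which there is an étale-radicial section. -/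
theorem exists_f_piece ⦃Z : Scheme.{u}⦄ [IsReduced Z] [IsLocallyNoetherian Z] [Nonempty Z] (a : Z ⟶ S) :
    ∃ U : Z.Opens, (U : Set Z).Nonempty ∧ FPiece f (U.ι ≫ a) := by
  classical
  obtain ⟨η, hη, -⟩ := H8Props.exists_genericPoints_specializes (Classical.arbitrary Z)
  obtain ⟨O, hO, hηO, hOcl⟩ := H8Props.exists_open_nhd_subset_closure hη
  obtain ⟨V, hV, hηV, hVO⟩ := exists_isAffineOpen_mem_and_subset (U := (⟨O, hO⟩ : Z.Opens)) hηO
  let f' := pullback.snd f a
  haveI : Surjective f' := MorphismProperty.pullback_snd _ _ ‹_›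
  haveI : LocallyOfFiniteType f' := MorphismProperty.pullback_snd _ _ inferInstance
  obtain ⟨x, hx⟩ := f'.surjective η
  obtain ⟨W, hW, hxW, hWV⟩ := exists_isAffineOpen_mem_and_subset (U := f' ⁻¹ᵁ V)
    (show x ∈ f' ⁻¹ᵁ V from show f' x ∈ V from hx.symm ▸ hηV)
  let R := Γ(Z, V)
  haveI : IsIntegral V.toScheme := by
    haveI : IrreducibleSpace ↥V.toScheme := by
      have hirr : IsPreirreducible (V : Set Z) := by
        intro u v hu hv hne hne'
        obtain ⟨y, hyV, hyu⟩ := hne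
        obtain ⟨y', hyV', hyv⟩ := hne'
        have h1 : η ∈ u := (specializes_iff_mem_closure.2 (hOcl (hVO hyV))).mem_open hu hyu
        have h2 : η ∈ v := (specializes_iff_mem_closure.2 (hOcl (hVO hyV'))).mem_open hv hyv
        exact ⟨η, hηV, h1, h2⟩
      exact { toPreirreducibleSpace := Subtype.preirreducibleSpace hirr, toNonempty := ⟨⟨η, hηV⟩⟩ }
    exact isIntegral_of_irreducibleSpace_of_isReduced _
  haveI : Nonempty V := ⟨⟨η, hηV⟩⟩
  haveI : IsDomain R := by
    haveI : IsDomain Γ(V.toScheme, ⊤) := inferInstance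
    exact Function.Injective.isDomain V.topIso.inv.hom
      ((ConcreteCategory.bijective_of_isIso V.topIso.inv).1)
  haveI : IsNoetherianRing R := IsLocallyNoetherian.component_noetherian ⟨V, hV⟩
  let α : R →+* Γ(pullback f a, W) := (f'.appLE V W hWV).hom
  letI := α.toAlgebra
  haveI : Algebra.FiniteType R Γ(pullback f a, W) := f'.finiteType_appLE hV hW hWV
  let K := FractionRing R
  -- the fibre over the generic point is nonempty
  let P := hW.primeIdealOf ⟨x, hxW⟩
  let ζ := hV.primeIdealOf ⟨η, hηV⟩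
  have hζ : (PrimeSpectrum.comap α P : PrimeSpectrum R) = ζ := by
    refine hV.fromSpec.isOpenEmbedding.injective ?_
    rw [hV.fromSpec_primeIdealOf]
    have h1 := congr(($(hV.SpecMap_appLE_fromSpec f' hW hWV)) P)
    rw [Scheme.Hom.comp_apply, Scheme.Hom.comp_apply, hW.fromSpec_primeIdealOf] at h1
    exact h1.trans hx
  have hζ0 : (ζ : PrimeSpectrum R).asIdeal = ⊥ := by
    have h0 : hV.fromSpec (⊥ : PrimeSpectrum R) = η := by
      refine H8Props.mem_genericPoints_iff.1 hη _ ?_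
      have h1 : hV.fromSpec (hV.primeIdealOf ⟨η, hηV⟩) = η := hV.fromSpec_primeIdealOf ⟨η, hηV⟩
      have h2 : hV.fromSpec (⊥ : PrimeSpectrum R) ⤳ hV.fromSpec (hV.primeIdealOf ⟨η, hηV⟩) :=
        ((PrimeSpectrum.le_iff_specializes _ _).1 bot_le).map hV.fromSpec.continuous
      rwa [h1] at h2
    have : (⊥ : PrimeSpectrum R) = ζ :=
      hV.fromSpec.isOpenEmbedding.injective (h0.trans (hV.fromSpec_primeIdealOf ⟨η, hηV⟩).symm)
    rw [← this]; rfl
  haveI : Nontrivial (TensorProduct R K Γ(pullback f a, W)) := by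
    let F := FractionRing (Γ(pullback f a, W) ⧸ (P : PrimeSpectrum _).asIdeal)
    let β : R →+* F := (algebraMap (Γ(pullback f a, W) ⧸ (P : PrimeSpectrum _).asIdeal) F).comp
      ((Ideal.Quotient.mk _).comp α)
    have hβ : Function.Injective β := by
      refine (IsFractionRing.injective (Γ(pullback f a, W) ⧸ (P : PrimeSpectrum _).asIdeal) F).comp ((injective_iff_map_eq_zero ((Ideal.Quotient.mk (P : PrimeSpectrum _).asIdeal).comp α)).2 fun r hr => ?_)
      have : r ∈ (PrimeSpectrum.comap α P : PrimeSpectrum R).asIdeal :=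
        (Ideal.Quotient.eq_zero_iff_mem.1 hr : α r ∈ (P : PrimeSpectrum _).asIdeal)
      rw [hζ, hζ0] at this
      exact this
    have hβ' : algebraMap R F = β := rfl
    let l : K →ₐ[R] F := IsLocalization.liftAlgHom (M := nonZeroDivisors R) (S := K)
      (f := Algebra.ofId R F) fun y => IsUnit.mk0 _ fun h0 =>
        nonZeroDivisors.ne_zero y.2 (hβ (by rw [map_zero, ← hβ']; exact h0))
    let r : Γ(pullback f a, W) →ₐ[R] F :=
      { (algebraMap (Γ(pullback f a, W) ⧸ (P : PrimeSpectrum _).asIdeal) F).comp (Ideal.Quotient.mk _) with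
        commutes' := fun _ => rfl }
    exact (Algebra.TensorProduct.lift l r fun _ _ => Commute.all _ _).toRingHom.domain_nontrivial
  obtain ⟨g₀, hg₀, R', B, _, _, _, h, g, ψ, hψ, het, hhfin, hhinj, hgfin, hginj, hR', hUI⟩ :=
    exists_etale_radicial_model (R := R) (K := K) (A := Γ(pullback f a, W))
  let R₁ := Localization.Away g₀
  haveI : IsDomain R₁ := IsLocalization.isDomain_localization
    (powers_le_nonZeroDivisors_of_noZeroDivisors hg₀)
  let hs := Spec.map (CommRingCat.ofHom h)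
  let gs := Spec.map (CommRingCat.ofHom g)
  haveI : IsFinite hs := (IsFinite.SpecMap_iff _).2 hhfin
  haveI : Etale hs := (HasRingHomProperty.Spec_iff (P := @Etale)).2 het
  haveI : Surjective hs := by
    letI := h.toAlgebra
    haveI : Module.Finite R₁ R' := hhfin
    exact surjective_Spec_of_finite (L := R') hhinj
  haveI : IsFinite gs := (IsFinite.SpecMap_iff _).2 hgfin
  haveI : Surjective gs := by
    letI := g.toAlgebra
    haveI : Module.Finite R' B := hgfin
    exact surjective_Spec_of_finite (L := B) hginj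
  haveI : IsReduced (Spec (CommRingCat.of R')) := inferInstance
  obtain ⟨U₀, hU₀, hflat, hlfp⟩ := H7Flat.exists_dense_flatLFP gs
  have hbad : (⊥ : PrimeSpectrum R₁) ∉ hs '' (U₀ : Set (Spec (CommRingCat.of R')))ᶜ := by
    rintro ⟨q, hq, hqe⟩
    have hq0 : (q : PrimeSpectrum R') = (⊥ : PrimeSpectrum R') := by
      letI := h.toAlgebra
      haveI : Module.Finite R₁ R' := hhfin
      exact PrimeSpectrum.ext ((Ideal.eq_bot_of_comap_eq_bot (R := R₁)
        (I := (q : PrimeSpectrum R').asIdeal) (congrArg PrimeSpectrum.asIdeal hqe)).trans rfl)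
    exact hq (hq0.symm ▸ bot_mem_of_nonempty U₀ hU₀.nonempty)
  obtain ⟨D, hD, hbD, hDsub⟩ := exists_isAffineOpen_mem_and_subset
    (U := (⟨(hs '' (U₀ : Set (Spec (CommRingCat.of R')))ᶜ)ᶜ,
      (hs.isClosedMap _ U₀.2.isClosed_compl).isOpen_compl⟩ : (Spec (CommRingCat.of R₁)).Opens)) hbad
  haveI : IsAffine D.toScheme := hD
  let E := hs ⁻¹ᵁ D
  have hEU : E ≤ U₀ := fun q hq => by
    by_contra hn
    exact hDsub hq ⟨q, hn, rfl⟩
  obtain ⟨hflE, hlfpE⟩ : Flat (gs ∣_ E) ∧ LocallyOfFinitePresentation (gs ∣_ E) := by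
    have h := ((morphismRestrictRestrict gs U₀ (U₀.ι ⁻¹ᵁ E))).trans (morphismRestrictEq gs
      (show U₀.ι ''ᵁ (U₀.ι ⁻¹ᵁ E) = E by
        rw [Scheme.Hom.image_preimage_eq_opensRange_inf, Scheme.Opens.opensRange_ι,
          inf_eq_right.2 hEU]))
    exact ⟨(MorphismProperty.arrow_mk_iso_iff @Flat h).1 (IsZariskiLocalAtTarget.restrict hflat _),
      (MorphismProperty.arrow_mk_iso_iff @LocallyOfFinitePresentation h).1
        (IsZariskiLocalAtTarget.restrict hlfp _)⟩
  let ℓ := Spec.map (CommRingCat.ofHom (algebraMap R R₁))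
  haveI : IsOpenImmersion ℓ := IsOpenImmersion.of_isLocalization g₀
  let u : D.toScheme ⟶ Z := D.ι ≫ ℓ ≫ hV.fromSpec
  have hσ : ((gs ⁻¹ᵁ E).ι ≫ Spec.map (CommRingCat.ofHom ψ) ≫ hW.fromSpec ≫ pullback.fst f a) ≫ f =
      (gs ∣_ E) ≫ (hs ∣_ D) ≫ u ≫ a := by
    simp only [u, Category.assoc, pullback.condition]
    rw [← reassoc_of% (hV.SpecMap_appLE_fromSpec f' hW hWV)]
    have hc : Spec.map (CommRingCat.ofHom ψ) ≫ Spec.map (f'.appLE V W hWV) = gs ≫ hs ≫ ℓ := by
      simp only [gs, hs, ℓ, ← Spec.map_comp]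
      congr 1
      exact CommRingCat.hom_ext hψ
    rw [reassoc_of% hc, morphismRestrict_ι_assoc, morphismRestrict_ι_assoc]
  haveI : IsOpenImmersion u := inferInstance
  refine ⟨u.opensRange, ⟨u ⟨_, hbD⟩, _, rfl⟩, FPiece.of_iso u.isoOpensRange _ ⟨inferInstance,
    E.toScheme, (gs ⁻¹ᵁ E).toScheme, hs ∣_ D, gs ∣_ E,
    (gs ⁻¹ᵁ E).ι ≫ Spec.map (CommRingCat.ofHom ψ) ≫ hW.fromSpec ≫ pullback.fst f a,
    ⟨IsZariskiLocalAtTarget.restrict ‹Etale hs› D, IsZariskiLocalAtTarget.restrict ‹Surjective hs› D,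
      IsZariskiLocalAtTarget.restrict ‹IsFinite hs› D⟩,
    ⟨hflE, IsZariskiLocalAtTarget.restrict hUI E, IsZariskiLocalAtTarget.restrict ‹Surjective gs› E,
      hlfpE, IsZariskiLocalAtTarget.restrict ‹IsFinite gs› E⟩, ?_⟩⟩
  rw [hσ, Scheme.Hom.isoOpensRange_hom_ι_assoc]

/-- The stratification of `S`, without Noetherian hypotheses. -/
theorem exists_f_stratification [CompactSpace S] [QuasiSeparatedSpace S] [QuasiCompact f]
    [QuasiSeparated f] : GStrat (FPiece f) (𝟙 S) := by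
  obtain ⟨I, _, _, _, D, c, hc, hfin, haff, ⟨e⟩⟩ := H7Lim.Approx.exists_fp_system (H7Lim.Approx.toZ S)
  obtain ⟨hc'⟩ := H7Lim.Approx.nonempty_isLimit_forget hc
  haveI : ∀ (i j : Iᵒᵖ) (a : i ⟶ j), IsAffineHom ((D ⋙ Over.forget _).map a) := haff
  haveI : ∀ i, CompactSpace ((D ⋙ Over.forget _).obj i) := fun i => (hfin i).2.2.2.1
  haveI : ∀ i, QuasiSeparatedSpace ((D ⋙ Over.forget _).obj i) := fun i => (hfin i).2.2.2.2
  haveI : IsIso e.inv.left := inferInstanceAs (IsIso ((Over.forget _).map e.inv))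
  let e' : S ⟶ ((Over.forget _).mapCone c).pt := e.inv.left
  haveI : IsIso e' := ‹_›
  obtain ⟨i, ⟨M⟩⟩ := H7Lim.FPDescent.exists_model hc' (f ≫ e')
  have h0 : IsPullback (𝟙 X) f (f ≫ e') e' := IsPullback.of_horiz_isIso ⟨Category.id_comp _⟩
  have hcons : Topology.IsConstructible (Set.range M.p) :=
    Set.image_univ ▸ M.p.isConstructible_image Topology.IsConstructible.univ
  have hall : ((Over.forget _).mapCone c).π.app i ⁻¹' Set.range M.p = Set.univ := by
    haveI : Surjective (f ≫ e') := inferInstance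
    refine Set.eq_univ_of_forall fun y => ?_
    obtain ⟨x, rfl⟩ := (f ≫ e').surjective y
    exact ⟨M.g x, congr(($(M.hpb.w)) x)⟩
  obtain ⟨j, φ, hφ⟩ := H17.IndCons.exists_stage_eq_univ hc' i (E := Set.range M.p) (fun R a _ => by
    intro y hy
    exact ⟨_, (H7Lim.isLocallyConstructible_preimage hcons.isLocallyConstructible a).isConstructible,
      hy, subset_rfl⟩) hall
  let N := M.shift φ
  haveI : IsLocallyNoetherian ((D ⋙ Over.forget _).obj j) := by
    haveI : LocallyOfFinitePresentation (D.obj j).hom := (hfin j).1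
    haveI : IsNoetherianRing (CommRingCat.of (ULift.{u} ℤ)) :=
      H7Lim.Approx.isNoetherianRing_ulift_int
    exact LocallyOfFiniteType.isLocallyNoetherian (D.obj j).hom
  haveI : Surjective N.p := ⟨fun s => by
    obtain ⟨x, hx⟩ := hφ.ge (Set.mem_univ s)
    obtain ⟨z, -, hz⟩ := Scheme.Pullback.exists_preimage_pullback (f := M.p)
      (g := (D ⋙ Over.forget _).map φ) x s hx
    exact ⟨z, hz⟩⟩
  let π' : S ⟶ (D ⋙ Over.forget _).obj j := e' ≫ ((Over.forget _).mapCone c).π.app j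
  have hπ' : IsPullback (𝟙 X ≫ N.g) f N.p π' := h0.paste_horiz N.hpb
  haveI : IsAffineHom π' := by
    haveI := isAffineHom_π_app _ _ hc' j
    infer_instance
  exact (gstrat_base (P := FPiece N.p) fun Z _ _ _ a _ => exists_f_piece N.p a).baseChange
    (b := π') (fun D' D'' q d' d hq h => h.baseChange hπ' q d' d hq) (p := π') (g' := 𝟙 S)
    (IsPullback.of_vert_isIso ⟨by simp⟩)

omit [LocallyOfFinitePresentation f] [Surjective f] in
theorem main_f {X S : Scheme.{u}} (f : X ⟶ S) [LocallyOfFinitePresentation f] [Surjective f]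
    [CompactSpace S] [QuasiSeparatedSpace S] :
    ∃ (ι : Type u) (_ : Finite ι) (T : ι → Scheme.{u}) (e : ∀ k, T k ⟶ S),
      (∀ k, IsImmersion (e k) ∧ QuasiCompact (e k) ∧ LocallyOfFinitePresentation (e k)) ∧
      (∀ k l, k ≠ l → Disjoint (Set.range (e k)) (Set.range (e l))) ∧
      (⋃ k, Set.range (e k)) = Set.univ ∧ ∀ k, FPiece f (e k) := by
  obtain ⟨X₀, j, hX₀, hlfp, hsurj⟩ := exists_affine_surjective f
  haveI : QuasiCompact (j ≫ f) := inferInstance
  haveI : QuasiSeparated (j ≫ f) := inferInstance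
  obtain ⟨ι, hι, T, e, he, hdis, hcov, hP⟩ :=
    exists_partition (fun D d h => h.1) (exists_f_stratification (j ≫ f))
  refine ⟨ι, hι, T, e, he, hdis, hcov, fun k => ?_⟩
  have h := hP k
  rw [Category.comp_id] at h
  obtain ⟨hD, T', T'', hh, g, σ, h1, h2, h3⟩ := h
  exact ⟨hD, T', T'', hh, g, σ ≫ j, h1, h2, (Category.assoc _ _ _).trans h3⟩

end Groth.Agent.H06Decomp.FiniteEtRad
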