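import Mathlib.RingTheory.Spectrum.Prime.Chevalley
import Mathlib.RingTheory.QuasiFinite.Basic
import Mathlib.RingTheory.Etale.Pi
import Mathlib.Topology.Spectral.ConstructibleTopology
import Mathlib.FieldTheory.IsAlgClosed.AlgebraicClosure
import Mathlib.LinearAlgebra.LinearIndependent.Lemmas

/-!
# Splitting quasi-finite algebras over a surjective base change

For a quasi-finite algebra `B` of finite presentation over `A` there is an `A`-algebra `A'`, with
surjective spectrum, such that `A' ⊗ B` modulo a nil ideal is a finite étale `A'`-algebra.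
-/

set_option autoImplicit false
set_option linter.unusedVariables false

universe u

open TensorProduct PrimeSpectrum

namespace Groth.Agent.H06Decomp

variable {A B : Type u} [CommRing A] [CommRing B] [Algebra A B]

/-- Finitely many points of `B` in an `A`-algebra lift to a finitely presented `A`-algebra. -/
theorem exists_fp_lift [Algebra.FinitePresentation A B] (Ω : Type u) [CommRing Ω] [Algebra A Ω] :
    ∀ (n : ℕ) (φ : Fin n → (B →ₐ[A] Ω)), ∃ (A' : Type u) (_ : CommRing A') (_ : Algebra A A')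
      (_ : Algebra.FinitePresentation A A') (ψ : A' →ₐ[A] Ω) (Φ : Fin n → (B →ₐ[A] A')),
      ∀ i, ψ.comp (Φ i) = φ i
  | 0, φ => ⟨A, inferInstance, inferInstance, inferInstance, Algebra.ofId A Ω, Fin.elim0,
      fun i => i.elim0⟩
  | n + 1, φ => by
    obtain ⟨A', _, _, hfp, ψ, Φ, hΦ⟩ := exists_fp_lift Ω n (fun i => φ i.castSucc)
    haveI := hfp
    haveI : Algebra.FinitePresentation A (A' ⊗[A] B) := Algebra.FinitePresentation.trans A A' _
    refine ⟨A' ⊗[A] B, inferInstance, inferInstance, inferInstance,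
      Algebra.TensorProduct.lift ψ (φ (Fin.last n)) (fun _ _ => Commute.all _ _),
      Fin.snoc (α := fun _ => B →ₐ[A] A' ⊗[A] B)
        (fun i => (Algebra.TensorProduct.includeLeft (S := A)).comp (Φ i))
        Algebra.TensorProduct.includeRight, fun i => ?_⟩
    induction i using Fin.lastCases with
    | last =>
      rw [Fin.snoc_last]
      exact AlgHom.ext fun b => by simp
    | cast i =>
      rw [Fin.snoc_castSucc, ← hΦ i]
      exact AlgHom.ext fun b => by simp

/-- An element of `A' ⊗ B` differs from its value at a point by a combination of the standard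
generators of the ideal of that point. -/
theorem sub_value_mem {A' : Type u} [CommRing A'] [Algebra A A'] (Φ : B →ₐ[A] A') (J : Ideal (A' ⊗[A] B))
    (hJ : ∀ b, (1 : A') ⊗ₜ[A] b - Φ b ⊗ₜ[A] (1 : B) ∈ J) (x : A' ⊗[A] B) :
    x - (Algebra.TensorProduct.lift (AlgHom.id A A') Φ (fun _ _ => Commute.all _ _) x) ⊗ₜ[A] (1 : B)
      ∈ J := by
  induction x with
  | zero => simp
  | tmul a b =>
    have h : a ⊗ₜ[A] b - (a * Φ b) ⊗ₜ[A] (1 : B) =
        (a ⊗ₜ[A] (1 : B)) * ((1 : A') ⊗ₜ[A] b - Φ b ⊗ₜ[A] (1 : B)) := by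
      simp [mul_sub]
    rw [Algebra.TensorProduct.lift_tmul, AlgHom.id_apply, h]
    exact J.mul_mem_left _ (hJ b)
  | add x y hx hy =>
    rw [map_add, add_tmul, add_sub_add_comm]
    exact add_mem hx hy

/-- Finitely many sections of `B` over `A'`, pairwise disjoint and exhausting. -/
structure Splitting (A B A' : Type u) [CommRing A] [CommRing B] [CommRing A'] [Algebra A B]
    [Algebra A A'] where
  n : ℕ
  Φ : Fin n → (B →ₐ[A] A')
  sep : ∀ i j, i ≠ j → ∃ b, IsUnit (Φ i b - Φ j b)
  exh : ∀ Q : Ideal (A' ⊗[A] B), Q.IsPrime →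
    ∃ i, ∀ b, (1 : A') ⊗ₜ[A] b - Φ i b ⊗ₜ[A] (1 : B) ∈ Q

/-- A quasi-finite fibre has only finitely many geometric points. -/
theorem finite_points [Algebra.QuasiFinite A B] (p : Ideal A) [p.IsPrime] (Ω : Type u) [Field Ω]
    [Algebra A Ω] [Algebra p.ResidueField Ω] [IsScalarTower A p.ResidueField Ω] :
    Finite (B →ₐ[A] Ω) := by
  haveI : Module.Finite p.ResidueField (p.Fiber B) := inferInstance
  haveI : Finite (p.Fiber B →ₐ[p.ResidueField] Ω) :=
    (linearIndependent_algHom_toLinearMap p.ResidueField (p.Fiber B) Ω).finite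
  refine Finite.of_injective (fun φ : B →ₐ[A] Ω => Algebra.TensorProduct.lift
    (Algebra.ofId p.ResidueField Ω) φ (fun _ _ => Commute.all _ _)) fun φ φ' h => AlgHom.ext fun b => ?_
  simpa using congr($h ((1 : p.ResidueField) ⊗ₜ[A] b))

/-- An algebra splitting `B` near a given prime. -/
theorem exists_splitting_at [Algebra.QuasiFinite A B] [Algebra.FinitePresentation A B]
    (p : PrimeSpectrum A) :
    ∃ (A'' : Type u) (_ : CommRing A'') (_ : Algebra A A'') (_ : Splitting A B A''),
      Topology.IsConstructible (Set.range (comap (algebraMap A A''))) ∧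
      p ∈ Set.range (comap (algebraMap A A'')) := by
  classical
  let Ω := AlgebraicClosure p.asIdeal.ResidueField
  haveI : Finite (B →ₐ[A] Ω) := finite_points p.asIdeal Ω
  obtain ⟨n, ⟨e⟩⟩ := Finite.exists_equiv_fin (B →ₐ[A] Ω)
  obtain ⟨A₁, _, _, hfp₁, ψ₁, Φ₁, hΦ₁⟩ := exists_fp_lift (A := A) (B := B) Ω n e.symm
  haveI := hfp₁
  have hne : ∀ x : {ij : Fin n × Fin n // ij.1 ≠ ij.2}, ∃ b, e.symm x.1.1 b ≠ e.symm x.1.2 b :=
    fun x => not_forall.mp fun h => x.2 (e.symm.injective (AlgHom.ext h))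
  choose bb hbb using hne
  let d : A₁ := ∏ x : {ij : Fin n × Fin n // ij.1 ≠ ij.2}, (Φ₁ x.1.1 (bb x) - Φ₁ x.1.2 (bb x))
  have hd : IsUnit (ψ₁ d) := by
    rw [isUnit_iff_ne_zero, map_prod]
    refine Finset.prod_ne_zero_iff.mpr fun x _ => ?_
    rw [map_sub, sub_ne_zero, ← AlgHom.comp_apply, ← AlgHom.comp_apply, hΦ₁, hΦ₁]
    exact hbb x
  let A' := Localization.Away d
  haveI : Algebra.FinitePresentation A₁ A' := IsLocalization.Away.finitePresentation d
  haveI : Algebra.FinitePresentation A A' := Algebra.FinitePresentation.trans A A₁ A'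
  let ι : A₁ →ₐ[A] A' := IsScalarTower.toAlgHom A A₁ A'
  let Φ : Fin n → (B →ₐ[A] A') := fun i => ι.comp (Φ₁ i)
  let ψ : A' →ₐ[A] Ω := IsLocalization.liftAlgHom (M := Submonoid.powers d) (f := ψ₁) (fun y => by
    obtain ⟨k, hk⟩ := y.2
    rw [← hk, map_pow]
    exact hd.pow k)
  have hψ : ∀ i, ψ.comp (Φ i) = e.symm i := fun i => AlgHom.ext fun b => by
    simp [ψ, Φ, ι, ← hΦ₁ i]
  have hsep : ∀ i j, i ≠ j → ∃ b, IsUnit (Φ i b - Φ j b) := fun i j hij => by
    refine ⟨bb ⟨(i, j), hij⟩, isUnit_of_dvd_unit ?_ (IsLocalization.Away.algebraMap_isUnit (S := A') d)⟩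
    rw [show Φ i (bb ⟨(i, j), hij⟩) - Φ j (bb ⟨(i, j), hij⟩) =
      algebraMap A₁ A' (Φ₁ i (bb ⟨(i, j), hij⟩) - Φ₁ j (bb ⟨(i, j), hij⟩)) from by simp [Φ, ι, map_sub]]
    exact map_dvd _ (Finset.dvd_prod_of_mem
      (fun x : {ij : Fin n × Fin n // ij.1 ≠ ij.2} => Φ₁ x.1.1 (bb x) - Φ₁ x.1.2 (bb x))
      (Finset.mem_univ ⟨(i, j), hij⟩))
  -- the ideals of the sections
  let s : Fin n → (A' ⊗[A] B →ₐ[A'] A') := fun i =>
    Algebra.TensorProduct.lift (AlgHom.id A' A') (Φ i) (fun _ _ => Commute.all _ _)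
  have hgen : ∀ i b, (1 : A') ⊗ₜ[A] b - Φ i b ⊗ₜ[A] (1 : B) ∈ RingHom.ker (s i).toRingHom :=
    fun i b => by simp [s, RingHom.mem_ker]
  have hfgker : ∀ i, (RingHom.ker (s i).toRingHom).FG := fun i =>
    Algebra.FinitePresentation.ker_fG_of_surjective (s i) fun a => ⟨a ⊗ₜ 1, by simp [s]⟩
  let T : Set (PrimeSpectrum (A' ⊗[A] B)) := ⋃ i, zeroLocus (RingHom.ker (s i).toRingHom : Set _)
  have hT : Topology.IsConstructible T := by
    refine Topology.IsConstructible.iUnion fun i => ?_
    rw [← Topology.isConstructible_compl]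
    exact (isRetrocompact_zeroLocus_compl_of_fg (hfgker i)).isConstructible (isClosed_zeroLocus _).isOpen_compl
  let E : Set (PrimeSpectrum A') := (comap (algebraMap A' (A' ⊗[A] B)) '' Tᶜ)ᶜ
  have hE : Topology.IsConstructible E :=
    (isConstructible_comap_image (RingHom.finitePresentation_algebraMap.mpr inferInstance) hT.compl).compl
  haveI : (RingHom.ker ψ.toRingHom).IsPrime := RingHom.ker_isPrime _
  let q : Ideal A' := RingHom.ker ψ.toRingHom
  have hqE : (⟨q, inferInstance⟩ : PrimeSpectrum A') ∈ E := by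
    rintro ⟨Q, hQ, hQq⟩
    apply hQ
    haveI : Q.asIdeal.LiesOver q := ⟨(PrimeSpectrum.ext_iff.mp hQq).symm⟩
    haveI : Algebra.QuasiFinite A' (A' ⊗[A] B) := inferInstance
    let ψA : A' →ₐ[A] Ω := ψ
    letI : Algebra A' Ω := ψ.toRingHom.toAlgebra
    haveI : IsScalarTower A A' Ω := IsScalarTower.of_algebraMap_eq fun a => (ψ.commutes a).symm
    let σ : q.ResidueField →ₐ[A'] Ω := Ideal.ResidueField.liftₐ q (Algebra.ofId A' Ω)
      (fun x hx => hx) fun x hx => isUnit_iff_ne_zero.mpr hx
    letI : Algebra q.ResidueField Ω := σ.toRingHom.toAlgebra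
    haveI : IsScalarTower A' q.ResidueField Ω :=
      IsScalarTower.of_algebraMap_eq fun a => (σ.commutes a).symm
    letI := Localization.AtPrime.algebraOfLiesOver q Q.asIdeal
    haveI : Module.Finite q.ResidueField Q.asIdeal.ResidueField := inferInstance
    let τ : Q.asIdeal.ResidueField →ₐ[q.ResidueField] Ω := IsAlgClosed.lift
    let χ : A' ⊗[A] B →ₐ[A'] Ω :=
      (τ.restrictScalars A').comp (IsScalarTower.toAlgHom A' (A' ⊗[A] B) Q.asIdeal.ResidueField)
    let i : Fin n := e ((χ.restrictScalars A).comp Algebra.TensorProduct.includeRight)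
    have hi : χ = (Algebra.ofId A' Ω).comp (s i) := by
      refine AlgHom.ext fun x => ?_
      induction x with
      | zero => simp
      | tmul a b =>
        have hb : ψ (Φ i b) = χ ((1 : A') ⊗ₜ[A] b) := by
          rw [← AlgHom.comp_apply, hψ, Equiv.symm_apply_apply]
          rfl
        have ha : a ⊗ₜ[A] b = algebraMap A' (A' ⊗[A] B) a * ((1 : A') ⊗ₜ[A] b) := by
          simp [Algebra.TensorProduct.algebraMap_apply]
        rw [ha, map_mul, map_mul, AlgHom.commutes, AlgHom.commutes]
        congr 1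
        rw [← hb]
        simp [s]
        rfl
      | add x y hx hy => simp only [map_add, hx, hy]
    refine Set.mem_iUnion.mpr ⟨i, fun x hx => ?_⟩
    have h0 : χ x = 0 := by
      rw [hi, AlgHom.comp_apply, show s i x = 0 from hx, map_zero]
    exact Ideal.algebraMap_residueField_eq_zero.mp
      ((map_eq_zero_iff τ.toRingHom τ.toRingHom.injective).mp h0)
  obtain ⟨S, _, f, hf⟩ := exists_range_eq_of_isConstructible hE
  letI : Algebra A' S := f.toAlgebra
  letI : Algebra A S := (f.comp (algebraMap A A')).toAlgebra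
  haveI : IsScalarTower A A' S := IsScalarTower.of_algebraMap_eq fun _ => rfl
  let g : A' →ₐ[A] S := IsScalarTower.toAlgHom A A' S
  refine ⟨S, inferInstance, inferInstance,
    { n := n
      Φ := fun i => g.comp (Φ i)
      sep := fun i j hij => ?_
      exh := fun Q hQ => ?_ }, ?_, ?_⟩
  · obtain ⟨b, hb⟩ := hsep i j hij
    exact ⟨b, by simpa only [AlgHom.comp_apply, map_sub] using hb.map g⟩
  · let m : A' ⊗[A] B →ₐ[A] S ⊗[A] B := Algebra.TensorProduct.map g (AlgHom.id A B)
    let Q₀ : PrimeSpectrum (A' ⊗[A] B) := comap m.toRingHom ⟨Q, hQ⟩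
    have h1 : comap (algebraMap A' (A' ⊗[A] B)) Q₀ ∈ Set.range (comap f) :=
      ⟨comap (algebraMap S (S ⊗[A] B)) ⟨Q, hQ⟩, by
        apply PrimeSpectrum.ext
        ext a
        simp [Q₀, m, g, Algebra.TensorProduct.algebraMap_apply, RingHom.algebraMap_toAlgebra]⟩
    rw [hf] at h1
    have h2 : Q₀ ∈ T := by_contra fun h => h1 ⟨Q₀, h, rfl⟩
    obtain ⟨i, hi⟩ := Set.mem_iUnion.mp h2
    exact ⟨i, fun b => by simpa [Q₀, m] using hi (hgen i b)⟩
  · rw [show algebraMap A S = f.comp (algebraMap A A') from rfl, comap_comp, Set.range_comp, hf]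
    exact isConstructible_comap_image (RingHom.finitePresentation_algebraMap.mpr inferInstance) hE
  · rw [show algebraMap A S = f.comp (algebraMap A A') from rfl, comap_comp, Set.range_comp, hf]
    refine ⟨_, hqE, PrimeSpectrum.ext (Ideal.ext fun a => ?_)⟩
    change ψ (algebraMap A A' a) = 0 ↔ a ∈ p.asIdeal
    rw [AlgHom.commutes, IsScalarTower.algebraMap_apply A p.asIdeal.ResidueField Ω,
      map_eq_zero_iff _ (FaithfulSMul.algebraMap_injective _ _)]
    exact Ideal.algebraMap_residueField_eq_zero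

/-- Constructible sets of a spectrum are open in the constructible topology. -/
theorem isOpen_constructibleTopology {R : Type u} [CommRing R] {E : Set (PrimeSpectrum R)}
    (hE : Topology.IsConstructible E) : @IsOpen _ (constructibleTopology (PrimeSpectrum R)) E := by
  obtain ⟨s, rfl⟩ := exists_constructibleSetData_iff.mpr hE
  rw [ConstructibleSetData.toSet]
  refine @isOpen_biUnion _ _ (constructibleTopology _) _ _ fun C _ => ?_
  rw [BasicConstructibleSetData.toSet, Set.sdiff_eq, ← basicOpen_eq_zeroLocus_compl]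
  refine @IsOpen.inter _ (constructibleTopology _) _ _ ?_
    ((isCompact_basicOpen C.f).isOpen_constructibleTopology_of_isOpen isOpen_basicOpen)
  refine IsCompact.isOpen_constructibleTopology_of_isClosed ?_ (isClosed_zeroLocus _)
  rw [← zeroLocus_span]
  exact QuasiSeparatedSpace.isRetrocompact_iff_isCompact (isClosed_zeroLocus _).isOpen_compl |>.mp
    (isRetrocompact_zeroLocus_compl_of_fg (Submodule.fg_span (Set.finite_range C.g)))

/-- The main ring theoretic statement. -/
theorem exists_split [Algebra.QuasiFinite A B] [Algebra.FinitePresentation A B] :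
    ∃ (A' : Type u) (_ : CommRing A') (_ : Algebra A A') (C : Type u) (_ : CommRing C)
      (_ : Algebra A' C) (θ : A' ⊗[A] B →ₐ[A'] C),
      Function.Surjective (comap (algebraMap A A')) ∧ Function.Surjective θ ∧
      (∀ Q : Ideal (A' ⊗[A] B), Q.IsPrime → RingHom.ker θ.toRingHom ≤ Q) ∧
      Module.Finite A' C ∧ Algebra.Etale A' C := by
  classical
  choose W cW aW σ hc hp using fun p : PrimeSpectrum A => exists_splitting_at (B := B) p
  letI := cW
  letI := aW
  obtain ⟨t, ht⟩ := (isCompact_univ (X := WithConstructibleTopology (PrimeSpectrum A))).elim_finite_subcover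
    (fun p => WithTopology.ofTopology ⁻¹' Set.range (comap (algebraMap A (W p))))
    (fun p => WithConstructibleTopology.isOpen_iff.mpr (isOpen_constructibleTopology (hc p)))
    (fun x _ => Set.mem_iUnion.mpr ⟨_, hp _⟩)
  let A' := (p : t) → W p
  let I := (p : t) × Fin (σ p).n
  let C := (k : I) → W k.1
  let c : ∀ k : I, A' →ₐ[A] W k.1 := fun k => Pi.evalAlgHom A (fun p : t => W p) k.1
  letI : ∀ k : I, Algebra A' (W k.1) := fun k => (c k).toRingHom.toAlgebra
  haveI : ∀ k : I, IsScalarTower A A' (W k.1) := fun k =>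
    IsScalarTower.of_algebraMap_eq fun a => ((c k).commutes a).symm
  have hsurjc : ∀ k : I, Function.Surjective (algebraMap A' (W k.1)) := fun k y =>
    ⟨Pi.single k.1 y, Pi.single_eq_same _ _⟩
  let θk : ∀ k : I, A' ⊗[A] B →ₐ[A'] W k.1 := fun k =>
    Algebra.TensorProduct.lift (Algebra.ofId A' (W k.1)) ((σ k.1).Φ k.2) (fun _ _ => Commute.all _ _)
  have hθk : ∀ k a b, θk k (a ⊗ₜ[A] b) = a k.1 * (σ k.1).Φ k.2 b := fun k a b => by
    simp [θk, RingHom.algebraMap_toAlgebra, c, Pi.evalAlgHom, AlgHom.coe_mk]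
  let θ : A' ⊗[A] B →ₐ[A'] C := AlgHom.pi θk
  have hone : ∀ q, (1 : A') q = 1 := fun _ => rfl
  have hθ : ∀ x k, θ x k = θk k x := fun _ _ => rfl
  refine ⟨A', inferInstance, inferInstance, C, inferInstance, inferInstance, θ, ?_, ?_, ?_, ?_, ?_⟩
  · intro x
    obtain ⟨p, hpt, hx⟩ := Set.mem_iUnion₂.mp (ht (Set.mem_univ (WithTopology.toTopology _ x)))
    obtain ⟨y, hy⟩ := hx
    refine ⟨comap (Pi.evalRingHom (fun p : t => W p) ⟨p, hpt⟩) y, ?_⟩
    rw [← comap_comp_apply]
    exact hy
  · -- surjectivity, by separating the components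
    suffices h : ∀ k, ∃ y, θ y = Pi.single k 1 by
      intro z
      choose y hy using h
      have hy' : ∀ k l, θk l (y k) = (Pi.single k 1 : C) l := fun k l => congr_fun (hy k) l
      refine ⟨∑ k, (Pi.single k.1 (z k) ⊗ₜ[A] (1 : B)) * y k, funext fun l => ?_⟩
      simp only [map_sum, map_mul, Finset.sum_apply, Pi.mul_apply, hθ, hy']
      rw [Finset.sum_eq_single l (fun k _ hk => by simp [Pi.single_eq_of_ne' hk]) (by simp)]
      simp [hθ, hθk, hone]
    intro k
    have h : ∀ l : I, l ≠ k → ∃ y, θ y k = 1 ∧ θ y l = 0 := by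
      intro l hl
      by_cases h1 : l.1 = k.1
      · obtain ⟨p, i⟩ := k
        obtain ⟨p', j⟩ := l
        obtain rfl : p' = p := h1
        have hij : i ≠ j := fun e => hl (by rw [e])
        obtain ⟨b, hb⟩ := (σ p').sep i j hij
        refine ⟨(Pi.single p' (↑hb.unit⁻¹ : W p') ⊗ₜ[A] (1 : B)) *
          ((1 : A') ⊗ₜ[A] b - Pi.single p' ((σ p').Φ j b) ⊗ₜ[A] (1 : B)), ?_, ?_⟩
        · simp [hθ, hθk, hone]
        · simp [hθ, hθk, hone]
      · refine ⟨Pi.single k.1 1 ⊗ₜ[A] (1 : B), ?_, ?_⟩ <;> simp [hθ, hθk, h1]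
    choose y hy using h
    refine ⟨(Pi.single k.1 1 ⊗ₜ[A] (1 : B)) * ∏ l : {l : I // l ≠ k}, y l.1 l.2, funext fun (m : I) => ?_⟩
    rw [map_mul, map_prod, Pi.mul_apply, Finset.prod_apply]
    by_cases hm : m = k
    · subst hm
      simp [hθ, hθk, hone]
      exact Finset.prod_eq_one fun l _ => (hy l.1 l.2).1
    · rw [Pi.single_eq_of_ne hm, Finset.prod_eq_zero (Finset.mem_univ (⟨m, hm⟩ : {l : I // l ≠ k})) (hy m hm).2, mul_zero]
  · intro Q hQ
    -- Q lives on one component
    have hex : ∃ p : t, (Pi.single p 1 : A') ⊗ₜ[A] (1 : B) ∉ Q := by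
      by_contra! h
      refine hQ.ne_top ((Ideal.eq_top_iff_one _).mpr ?_)
      rw [show (1 : A' ⊗[A] B) = ∑ p : t, (Pi.single p 1 : A') ⊗ₜ[A] (1 : B) by
        rw [← sum_tmul, show (∑ p : t, (Pi.single p 1 : A')) = 1 from Finset.univ_sum_single (1 : A')]; rfl]
      exact Ideal.sum_mem _ fun p _ => h p
    obtain ⟨p, hpQ⟩ := hex
    let π : A' ⊗[A] B →ₐ[A] W p ⊗[A] B :=
      Algebra.TensorProduct.map (Pi.evalAlgHom A (fun p : t => W p) p) (AlgHom.id A B)
    have hsec : ∀ x : A' ⊗[A] B, LinearMap.rTensor B (LinearMap.single A (fun p : t => W p) p) (π x) =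
        ((Pi.single p 1 : A') ⊗ₜ[A] (1 : B)) * x := by
      intro x
      induction x with
      | zero => simp
      | tmul a b =>
        simp only [π, Algebra.TensorProduct.map_tmul, AlgHom.id_apply, LinearMap.rTensor_tmul,
          Algebra.TensorProduct.tmul_mul_tmul, one_mul]
        congr 1
        funext q
        by_cases hq : q = p
        · subst hq; simp [Pi.evalAlgHom]
        · simp [Pi.single_eq_of_ne hq]
      | add x y hx hy => simp only [map_add, hx, hy, mul_add]
    have hker : RingHom.ker π.toRingHom ≤ Q := fun x hx => (hQ.mem_or_mem (show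
        ((Pi.single p 1 : A') ⊗ₜ[A] (1 : B)) * x ∈ Q by
      rw [← hsec, show π x = 0 from hx, map_zero]; exact Q.zero_mem)).resolve_left hpQ
    have hπ : Function.Surjective π.toRingHom := by
      intro z
      induction z with
      | zero => exact ⟨0, map_zero _⟩
      | tmul a b => exact ⟨Pi.single p a ⊗ₜ b, by simp [π, Pi.evalAlgHom]⟩
      | add x y hx hy =>
        obtain ⟨x', rfl⟩ := hx
        obtain ⟨y', rfl⟩ := hy
        exact ⟨x' + y', map_add _ _ _⟩
    haveI : (Q.map π.toRingHom).IsPrime := Ideal.map_isPrime_of_surjective hπ hker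
    obtain ⟨i, hi⟩ := (σ p).exh (Q.map π.toRingHom) inferInstance
    have hlift : ∀ z, Algebra.TensorProduct.lift (AlgHom.id A (W p)) ((σ p).Φ i)
        (fun _ _ => Commute.all _ _) (π z) = θk ⟨p, i⟩ z := by
      intro z
      induction z with
      | zero => simp
      | tmul a b => simp [π, hθk, Pi.evalAlgHom]
      | add z z' hz hz' => simp only [map_add, hz, hz']
    intro x hx
    have h0 : θk ⟨p, i⟩ x = 0 := congr_fun (show θ x = 0 from hx) ⟨p, i⟩
    have h1 := sub_value_mem ((σ p).Φ i) _ hi (π x)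
    rw [hlift, h0, zero_tmul, sub_zero] at h1
    have h3 : x ∈ (Q.map π.toRingHom).comap π.toRingHom := h1
    rwa [Ideal.comap_map_of_surjective' _ hπ, sup_eq_left.mpr hker] at h3
  · haveI : ∀ k : I, Module.Finite A' (W k.1) := fun k =>
      Module.Finite.of_surjective (Algebra.linearMap A' (W k.1)) (hsurjc k)
    infer_instance
  · haveI : ∀ k : I, Algebra.Etale A' (W k.1) := fun k => by
      haveI : IsLocalization.Away (Pi.single k.1 1 : A') (W k.1) := by
        refine IsLocalization.away_of_isIdempotentElem_of_mul ?_ ?_ (hsurjc k)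
        · show _ = _
          rw [← Pi.single_mul, one_mul]
        · intro x y
          refine ⟨fun h => funext fun q => ?_, fun h => ?_⟩
          · by_cases hq : q = k.1
            · subst hq; simpa using! h
            · simp [Pi.single_eq_of_ne hq]
          · simpa using! congr_fun h k.1
      exact Algebra.Etale.of_isLocalizationAway (Pi.single k.1 1 : A')
    infer_instance

end Groth.Agent.H06Decomp
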